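/-
Coset enumeration data, found by a computer search; checked by `decide +kernel`.
-/
import Cfsg.Agent.Lib.Spor.TC.Check

namespace CfsgLib.Spor.Held.CQ

open CfsgLib.Spor.TC

def edgeTbl : Tbl :=
  .bin (.bin (.tip 0x9000163000150000b200009000151000140000a00000800014300013000090000080001320000800012100011000072000110000c000006000113000060001010000f000071000050000f3000050000e2000050000d00000c000042000030000c3000030000b10000a000041000020000a30000200009200002000080000070000400000100007300006000030000010000620000100005100000000043000000000320000000002100000000010) (.tip 0x2f0002220002f0002010002f0001f00001e0002f3000200002e30002e0002120002e0002600001e0002e10002d0001f20002d0001d10002d0002200001c0002d3000220002c30002c0001e20002c0002310001c0002c00002b0001b20002b0002410002b0001d00001a0002b3000240002a30002a0002500002a0002720001a0002a100029000262000290001b1000290002100001900029300026000283000280002710002800020000019000282)) (.bin (.tip 0x2700018000017000273000170002610002500018200025000161000150002530002400017200015000240000230001420002300016000013000233000130002210002100014100012000213000120002020001f000111000100001f3000100001e00001d0000f20000e0001d30001c0001020000e0001c10001b0000f00000d0001b30001a0000e00000d0001a2000190001200000d000191000180000c10000b0001830000b000170000160000a2)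 (.none))

def nodeTbl : Tbl :=
  .bin (.tip 0x1030001000000e30000e10000d30000d20000d10000b30000b0000093000091000083000082000081000063000061000053000052000050000033000031000023000022000020000013000012000011000003000002000001000000000000) (.tip 0x1e30001e10001c30001c00001a30001a1000193000192000173000171000153000150000133000131000123000122)

def rowTbl : Tbl :=
  .bin (.tip 0x1f0001e0001d0001c0001b0001a000190001800017000160001500014000130001200011000100000f0000e0000d0000c0000b0000a00009000080000700006000050000400003000020000100000) (.tip 0x2f0002e0002d0002c0002b0002a00029000280002700026000250002400023000220002100020)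

def rels : List (List ℕ) := [[0, 1, 0, 1, 0, 1, 0, 1], [0, 2, 0, 2], [0, 3, 0, 3], [1, 2, 1, 2, 1, 2], [1, 3, 1, 3], [2, 3, 2, 3], [3, 2, 1, 0, 2, 1, 0, 2, 1, 0]]

def subs : List (List ℕ) := []

noncomputable def cert : Cert :=
  ⟨4, rels, subs, edgeTbl.get 44, nodeTbl.get 24, rowTbl.get 20⟩

end CfsgLib.Spor.Held.CQ
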